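import Groth.Agent.L21.RR.VeryAmpleIff

/-!
The closed immersion by a complete very ample series lands in the projective space of its sections.
-/

set_option autoImplicit false
set_option backward.isDefEq.respectTransparency false
set_option linter.style.haveILetI false
universe u

open CategoryTheory CategoryTheory.Limits AlgebraicGeometry TopologicalSpace Opposite IsLocalRing

noncomputable section

namespace Groth.L21.CliffordOne

open Groth.L21.RR
open Groth.L18.GenLoc (secOf)

attribute [local instance] Curv2.resAlgebra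

variable {X : Scheme.{u}} {L : X.Modules} [IsIntegral X] (k : Type u) [Field k] [IsAlgClosed k]
  [X.Over (Spec (CommRingCat.of k))] [IsProper (X ↘ Spec (CommRingCat.of k))]

/-- A family of sections separating points and tangent vectors gives a closed immersion. -/
theorem exists_closedImmersion_of_sep_tan' (hL : PicF.IsInvertible L) {n : ℕ} (hn : h k 0 L = n + 1)
    (hgen : ∀ (P : X), IsClosed ({P} : Set X) → ∃ φ : Coh.structureModule X ⟶ L, Function.Surjective (st φ P))
    (hsep : ∀ P Q : X, IsClosed ({P} : Set X) → IsClosed ({Q} : Set X) → P ≠ Q → ∃ s : Γ(L, ⊤),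
      L.presheaf.germ ⊤ P trivial s ∈ maximalIdeal (X.presheaf.stalk P) • (⊤ : Submodule (X.presheaf.stalk P) (L.presheaf.stalk P)) ∧
      L.presheaf.germ ⊤ Q trivial s ∉ maximalIdeal (X.presheaf.stalk Q) • (⊤ : Submodule (X.presheaf.stalk Q) (L.presheaf.stalk Q)))
    (htan : ∀ P : X, IsClosed ({P} : Set X) →
      maximalIdeal (X.presheaf.stalk P) • (⊤ : Submodule (X.presheaf.stalk P) (L.presheaf.stalk P)) ≤
        Submodule.span (X.presheaf.stalk P)
          {v | (∃ s : Γ(L, ⊤), v = L.presheaf.germ ⊤ P trivial s) ∧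
            v ∈ maximalIdeal (X.presheaf.stalk P) • (⊤ : Submodule (X.presheaf.stalk P) (L.presheaf.stalk P))} ⊔
        maximalIdeal (X.presheaf.stalk P) ^ 2 • (⊤ : Submodule (X.presheaf.stalk P) (L.presheaf.stalk P))) :
    ∃ r : X ⟶ Groth.L18.PUP.P n k, IsClosedImmersion r ∧
      r ≫ Groth.L18.PUP.pr n k = X ↘ Spec (CommRingCat.of k) ∧
      Nonempty ((Scheme.Modules.pullback r).obj (Groth.L18.PUP.O1 n k) ≅ L) := by
  classical
  haveI := isNoetherian_of_proper (X := X) k
  haveI := finite_HH' k (Groth.L16.ProperFinite.isCoh_of_isInvertible hL) 0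
  let b := Module.finBasisOfFinrankEq k (Coh.HH X L 0) hn
  let S : Fin (n + 1) → Γ(L, ⊤) := fun i => e0 L (b i)
  have hspan : ∀ s : Γ(L, ⊤), ∃ c : Fin (n + 1) → k,
      s = ∑ j, ProjUP.toGlobal (X ↘ Spec (CommRingCat.of k)) (c j) • S j := fun s => by
    refine ⟨fun j => b.repr ((e0 L).symm s) j, ?_⟩
    conv_lhs => rw [← (e0 L).apply_symm_apply s, ← b.sum_repr ((e0 L).symm s)]
    rw [map_sum]
    exact Finset.sum_congr rfl fun j _ => e0_smul k L _ _
  choose φ hφ using fun j => exists_hom_secOf (X := X) (S j)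
  have hG : ProjUP.GeneratedBy L S := Groth.L18.SpecLine.generatedBy_of_frames (ι := Fin (n + 1)) S fun x => by
    obtain ⟨z, hz, hxz⟩ := exists_closed_specialization x
    obtain ⟨ψ, hψ⟩ := hgen z hz
    have h1 := (surjective_st_iff_not_mem hL ψ z).1 hψ
    rw [st_one_top] at h1
    obtain ⟨c, hc⟩ := hspan (ψ.app ⊤ (oneSec X))
    obtain ⟨j, hj⟩ : ∃ j, L.presheaf.germ ⊤ z trivial (S j) ∉
        maximalIdeal (X.presheaf.stalk z) • (⊤ : Submodule (X.presheaf.stalk z) (L.presheaf.stalk z)) := by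
      by_contra hall
      push Not at hall
      refine h1 ?_
      rw [hc, map_sum]
      refine Submodule.sum_mem _ fun j _ => ?_
      rw [Groth.L20.ModStalk.germ_smul]
      exact Submodule.smul_mem _ _ (hall j)
    have hsj : Function.Surjective (st (φ j) z) := by
      refine (surjective_st_iff_not_mem hL (φ j) z).2 ?_
      rw [st_one (φ j) z (W := ⊤) trivial, Groth.L18.Frame.rs_self, ← secOf_eq, hφ j]
      exact hj
    refine ⟨_, j, (mem_genLocus_iff hL (φ j) x).2 (surjective_st_of_specializes hL hxz hsj), ?_⟩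
    rw [← hφ j]
    exact Groth.L18.GenLoc.isFrame_genLocus (φ j)
  obtain ⟨r, hr, τ, hτ⟩ := Groth.L18.PUP.exists_hom (X ↘ Spec (CommRingCat.of k)) L hL S hG
  refine ⟨r, ?_, hr, ⟨τ⟩⟩
  let M₁ := (Scheme.Modules.pullback r).obj (Groth.L18.PUP.O1 n k)
  let θ : ∀ x : X, M₁.presheaf.stalk x ≃ₗ[X.presheaf.stalk x] L.presheaf.stalk x := fun x =>
    ((Groth.L00.Stk.F X x).mapIso τ).toLinearEquiv
  have hθs : ∀ (x : X) (c : Fin (n + 1) → k),
      θ x (Groth.L18.CIC.secGerm (X ↘ Spec (CommRingCat.of k)) r x c) =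
        L.presheaf.germ ⊤ x trivial (∑ j, ProjUP.toGlobal (X ↘ Spec (CommRingCat.of k)) (c j) • S j) := by
    intro x c
    refine (st_germ τ.hom (U := ⊤) trivial _).trans ?_
    refine congrArg _ ?_
    rw [map_sum]
    refine Finset.sum_congr rfl fun j _ => ?_
    rw [Scheme.Modules.Hom.app_smul, hτ j]
  have hθmap : ∀ (x : X) (J : Ideal (X.presheaf.stalk x)),
      (J • (⊤ : Submodule (X.presheaf.stalk x) (M₁.presheaf.stalk x))).map (θ x).toLinearMap =
        J • (⊤ : Submodule (X.presheaf.stalk x) (L.presheaf.stalk x)) := fun x J => by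
    rw [Submodule.map_smul'', Submodule.map_top, LinearEquiv.range]
  have hθmem : ∀ (x : X) (J : Ideal (X.presheaf.stalk x)) (v : M₁.presheaf.stalk x),
      v ∈ J • (⊤ : Submodule (X.presheaf.stalk x) (M₁.presheaf.stalk x)) ↔
        θ x v ∈ J • (⊤ : Submodule (X.presheaf.stalk x) (L.presheaf.stalk x)) := fun x J v => by
    rw [← hθmap x J, ← LinearEquiv.coe_toLinearMap (θ x)]
    exact ⟨fun h => Submodule.mem_map_of_mem h, fun ⟨w, hw, hwv⟩ => (θ x).injective hwv ▸ hw⟩
  refine Groth.L18.CIC.isClosedImmersion_of_sep_tan (X ↘ Spec (CommRingCat.of k)) r hr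
    (fun P Q hP hQ hne' => ?_) fun P hP => ?_
  · obtain ⟨s, hsP, hsQ⟩ := hsep P Q hP hQ hne'
    obtain ⟨c, rfl⟩ := hspan s
    refine ⟨c, fun hiff => hsQ ?_⟩
    have h1 := hiff.1 ((hθmem P _ _).2 (by rw [hθs P c]; exact hsP))
    rw [← hθs Q c]
    exact (hθmem Q _ _).1 h1
  · intro v hv
    have h1 := htan P hP ((hθmem P _ v).1 hv)
    have h2 : θ P v ∈ (Submodule.span (X.presheaf.stalk P)
        {v | ∃ c : Fin (n + 1) → k, v = Groth.L18.CIC.secGerm (X ↘ Spec (CommRingCat.of k)) r P c ∧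
          v ∈ maximalIdeal (X.presheaf.stalk P) • (⊤ : Submodule (X.presheaf.stalk P) (Groth.L18.CIC.MS r P))} ⊔
        maximalIdeal (X.presheaf.stalk P) ^ 2 • (⊤ : Submodule (X.presheaf.stalk P) (Groth.L18.CIC.MS r P))).map
          (θ P).toLinearMap := by
      rw [Submodule.map_sup, Submodule.map_span, hθmap]
      obtain ⟨a, ha, b, hb, hab⟩ := Submodule.mem_sup.1 h1
      refine Submodule.mem_sup.2 ⟨a, Submodule.span_mono ?_ ha, b, hb, hab⟩
      rintro w ⟨⟨s, rfl⟩, hw⟩
      obtain ⟨c, rfl⟩ := hspan s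
      exact ⟨_, ⟨c, rfl, (hθmem P _ _).2 (by rw [hθs P c]; exact hw)⟩, hθs P c⟩
    obtain ⟨w, hw, hwv⟩ := h2
    exact (θ P).injective hwv ▸ hw

variable [Smooth (X ↘ Spec (CommRingCat.of k))]

/-- The immersion by all sections of a very ample module. -/
theorem exists_closedImmersion_sections (hd : topologicalKrullDim X = 1) (hL : PicF.IsInvertible L) {n : ℕ}
    (hn : h k 0 L = n + 1)
    (hD : ∀ (P Q : X) (hP : IsClosed ({P} : Set X)) (hQ : IsClosed ({Q} : Set X)),
      h k 0 (CohB1.tensorMod L (CohB1.tensorMod (ptI P hP) (ptI Q hQ))) + 2 = h k 0 L) :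
    ∃ r : X ⟶ Groth.L18.PUP.P n k, IsClosedImmersion r ∧
      r ≫ Groth.L18.PUP.pr n k = X ↘ Spec (CommRingCat.of k) ∧
      Nonempty ((Scheme.Modules.pullback r).obj (Groth.L18.PUP.O1 n k) ≅ L) := by
  haveI := isNoetherian_of_proper (X := X) k
  have hD' := fun P Q hP hQ => (twist_two_points k hd hL (P := P) (Q := Q) hP hQ).2.2.2.2.mp (hD P Q hP hQ)
  obtain ⟨P₀, hP₀, -⟩ := exists_closed_specialization (genericPoint X)
  refine exists_closedImmersion_of_sep_tan' k hL hn
    (fun P hP => (hD' P P hP hP).1) (fun P Q hP hQ hne => ?_) fun P hP => ?_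
  · obtain ⟨ψ, hψ⟩ := (hD' P Q hP hQ).2
    have hι := isMinusPt_twι hL hP
    refine ⟨(ψ ≫ twι L _).app ⊤ (oneSec X), ?_, ?_⟩ <;> rw [← st_one_top]
    · by_contra hn
      exact hι.not_surjective_comp hL ψ ((surjective_st_iff_not_mem hL _ P).2 hn)
    · exact (surjective_st_iff_not_mem hL _ Q).1 ((hι.surjective_comp_iff (Ne.symm hne) ψ).2 hψ)
  · intro v hv
    obtain ⟨ψ, hψ⟩ := (hD' P P hP hP).2
    have hι := isMinusPt_twι hL hP
    obtain ⟨w, rfl⟩ := (hι.range_iff v).2 hv
    obtain ⟨a, rfl⟩ := hψ w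
    obtain ⟨b, rfl⟩ := (bijective_smul_one P).2 a
    refine Submodule.mem_sup_left ?_
    show st (twι L _) P (st ψ P (b • one X P)) ∈ _
    rw [map_smul, map_smul, ← st_comp, st_one_top]
    refine Submodule.smul_mem _ _ (Submodule.subset_span ⟨⟨_, rfl⟩, ?_⟩)
    rw [← st_one_top]
    refine (hι.range_iff _).1 ⟨st ψ P (one X P), (st_comp ψ _ P _).symm⟩

end Groth.L21.CliffordOne
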