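import Groth.Agent.L21.CliffordOne.Main
import Groth.Agent.L21.Duality.CliffordEquality
import Groth.Prelude.Def_PicF2

/-!
Linear stability of projections of the canonical curve, through Clifford indices.
-/

set_option autoImplicit false
set_option backward.isDefEq.respectTransparency false
set_option linter.style.haveILetI false
universe u

open CategoryTheory CategoryTheory.Limits AlgebraicGeometry TopologicalSpace Opposite

noncomputable section

namespace Groth.L21.CliffordOne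

open Groth.L21.RR (h e0 e0_smul ptI twist_point)
open Groth.L21.Duality (rr_deg deg_congr deg_tensor exists_dual omega_invariants)
open Groth.L00.Tensor (tensorAssoc tensorComm tensorIso tensorUnitRight)

variable {k : Type u} [Field k] [IsAlgClosed k] {X : Scheme.{u}} [IsIntegral X]
  [X.Over (Spec (CommRingCat.of k))] [IsProper (X ↘ Spec (CommRingCat.of k))]
  [Smooth (X ↘ Spec (CommRingCat.of k))] (hd : topologicalKrullDim X = 1)

include hd in
/-- Without a pencil of degree two the Clifford index is at least one. -/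
theorem hmin_of_no_g12
    (hnh : ¬ ∃ (N : X.Modules) (t : Fin 2 → LinSer.Sect X N), LinSer.IsLinSer k X N 2 1 t)
    (M : X.Modules) (hM : PicF.IsInvertible M) (h2 : 2 ≤ h k 0 M) (h12 : 2 ≤ h k 1 M) :
    2 * (h k 0 M : ℤ) - 1 ≤ Curv2.deg k X M 1 := by
  have h0 : h k 0 (Coh.structureModule X) = 1 := Groth.L21.RR.h0_eq_one_of_isAlgClosed k
  have hcl := Groth.L21.Duality.clifford hd h0 hM (by omega) (by omega)
  by_contra hlt
  obtain ⟨N, s, hN, -⟩ := Groth.L21.Duality.clifford_equality hd h0 hM (by omega) (by omega)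
    ⟨fun e => by rw [Groth.L21.RR.h_congr k e 0, h0] at h2; omega⟩
    ⟨fun e => by
      rw [Groth.L21.RR.h_congr k e 1, (omega_invariants (k := k) (X := X) hd).2.1, h0] at h12
      omega⟩ (by omega)
  exact hnh ⟨N, s, hN⟩

include hd in
/-- Without pencils of degree two or three the degrees of pencils are at least four. -/
theorem four_le_deg_pencil (hg : 4 ≤ Curv2.genus k X)
    (hnh : ¬ ∃ (N : X.Modules) (t : Fin 2 → LinSer.Sect X N), LinSer.IsLinSer k X N 2 1 t)
    (hnt : ¬ ∃ (N : X.Modules) (t : Fin 2 → LinSer.Sect X N), LinSer.IsLinSer k X N 3 1 t)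
    (M : X.Modules) (hM : PicF.IsInvertible M) (h2 : 2 ≤ h k 0 M) : 4 ≤ Curv2.deg k X M 1 := by
  have h0 : h k 0 (Coh.structureModule X) = 1 := Groth.L21.RR.h0_eq_one_of_isAlgClosed k
  by_contra hlt
  have hrr := rr_deg (k := k) hd.le h0 M
  have := hmin_of_no_g12 hd hnh M hM h2 (by omega)
  obtain ⟨s, hs⟩ := Groth.L21.Duality.exists_isLinSer (k := k) hM (d := 3) (r := 1) (by omega) (by omega)
  exact hnt ⟨M, s, hs⟩

include hd in
/-- Without `g¹₂`, `g¹₃` or plane quintic models the Clifford index is at least two. -/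
theorem two_le_cliff (hg : 4 ≤ Curv2.genus k X)
    (hnh : ¬ ∃ (N : X.Modules) (t : Fin 2 → LinSer.Sect X N), LinSer.IsLinSer k X N 2 1 t)
    (hnt : ¬ ∃ (N : X.Modules) (t : Fin 2 → LinSer.Sect X N), LinSer.IsLinSer k X N 3 1 t)
    (hpl : Curv2.genus k X = 6 → ∀ i : X ⟶ CohB1.ProjSpace 2 k, IsClosedImmersion i →
      i ≫ CohB1.ProjSpace.toSpec 2 k ≠ X ↘ Spec (CommRingCat.of k))
    (M : X.Modules) (hM : PicF.IsInvertible M) (h2 : 2 ≤ h k 0 M) (h12 : 2 ≤ h k 1 M) :
    2 * (h k 0 M : ℤ) ≤ Curv2.deg k X M 1 := by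
  by_contra hlt
  have hmin := hmin_of_no_g12 hd hnh
  have := hmin M hM h2 h12
  rcases main hd hg ⟨M, hM, h2, h12, by omega⟩ hmin with ⟨L, s, hs⟩ | ⟨h6, i, hi, hi'⟩
  · exact hnt ⟨L, s, hs⟩
  · exact hpl h6 i hi hi'

include hd in
/-- On a trigonal curve the series of Clifford index one are the `g¹₃` and the series residual to it. -/
theorem no_cliff_of_trigonal (hg : 5 ≤ Curv2.genus k X)
    (hnh : ¬ ∃ (N : X.Modules) (t : Fin 2 → LinSer.Sect X N), LinSer.IsLinSer k X N 2 1 t)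
    {E : X.Modules} (hE : PicF.IsInvertible E) (hdE : Curv2.deg k X E 1 = 3) (hE0 : 2 ≤ h k 0 E)
    {r : ℕ} (hr : 2 ≤ r) (hr' : r + 4 ≤ Curv2.genus k X) {M : X.Modules} : ¬ IsCliff (k := k) M r := by
  rintro ⟨hM, hM0, hdM, hM1⟩
  haveI := Groth.L21.RR.isNoetherian_of_proper (X := X) k
  have h0 : h k 0 (Coh.structureModule X) = 1 := Groth.L21.RR.h0_eq_one_of_isAlgClosed k
  have hmin := hmin_of_no_g12 hd hnh
  have hsub : ∀ (P : X) (hP : IsClosed ({P} : Set X)),
      h k 0 (CohB1.tensorMod E (ptI P hP)) + 1 = 2 ∧ h k 0 E = 2 := by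
    intro P hP
    obtain ⟨hi, -, hd', -, hle, -⟩ := twist_point k hd hE hP
    have hle1 : h k 0 (CohB1.tensorMod E (ptI P hP)) ≤ 1 := by
      by_contra hlt
      have hrr := rr_deg (k := k) hd.le h0 (CohB1.tensorMod E (ptI P hP))
      have := hmin _ hi (by omega) (by omega)
      omega
    omega
  obtain ⟨P₀, hP₀⟩ := exists_closed_point k X
  have hE2 : h k 0 E = 2 := (hsub P₀ hP₀).2
  have hgE : Curv2.IsGloballyGenerated E :=
    (Groth.L21.RR.isGloballyGenerated_iff_drop k hd hE).2 fun P hP => by rw [hE2]; exact (hsub P hP).1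
  obtain ⟨E', hE', ⟨iE⟩⟩ := Groth.L08.Cube.exists_inverse hE
  have hZ := Groth.L18.GenLoc.isInvertible_tensor hM hE'
  let i : CohB1.tensorMod (CohB1.tensorMod M E') E ≅ M :=
    tensorAssoc M E' E ≪≫ tensorIso (Iso.refl M) (tensorComm E' E ≪≫ iE) ≪≫ tensorUnitRight M
  have hdZ := deg_tensor (k := k) hd hZ hE
  rw [deg_congr (k := k) i] at hdZ
  have hME := Groth.L18.GenLoc.isInvertible_tensor hM hE
  have hdME := deg_tensor (k := k) hd hM hE
  have hpt := Groth.L21.RR.pencil_trick' k hE hE2 hgE hM hZ i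
  have hrrME := rr_deg (k := k) hd.le h0 (CohB1.tensorMod M E)
  have hrrZ := rr_deg (k := k) hd.le h0 (CohB1.tensorMod M E')
  have hbZ : 2 ≤ h k 0 (CohB1.tensorMod M E') → 2 ≤ h k 1 (CohB1.tensorMod M E') → _ := hmin _ hZ
  by_cases h1ME : 2 ≤ h k 1 (CohB1.tensorMod M E) ∧ 2 ≤ h k 0 (CohB1.tensorMod M E)
  · have hb := hmin _ hME h1ME.2 h1ME.1
    have := hbZ (by omega) (by omega)
    omega
  · have := hbZ (by omega) (by omega)
    omega

omit [IsAlgClosed k] [IsIntegral X] [Smooth (X ↘ Spec (CommRingCat.of k))] in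
/-- Independent sections coming from a submodule. -/
theorem le_h0_of_linIndep {M L : X.Modules} (hM : PicF.IsInvertible M) (ι : M ⟶ L) {m : ℕ}
    {w : Fin m → LinSer.Sect X L} (hw : LinSer.LinIndep k X L w)
    (hv : ∀ j, ∃ v : LinSer.Sect X M, (ι.val.app (op ⊤)).hom v = w j) :
    m ≤ h k 0 M ∧ (h k 0 M = m → ∀ v : LinSer.Sect X M, ∃ c : Fin m → k,
      (ι.val.app (op ⊤)).hom v = ∑ j, (Coh.toGlobal (X ↘ Spec (CommRingCat.of k)) (c j)) • w j) := by
  haveI := Groth.L21.RR.isNoetherian_of_proper (X := X) k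
  haveI := Groth.L21.RR.finite_HH' k (Groth.L16.ProperFinite.isCoh_of_isInvertible hM) 0
  choose v hv using hv
  have hlin : ∀ c : Fin m → k, (ι.val.app (op ⊤)).hom (e0 M (∑ i, c i • (e0 M).symm (v i))) =
      ∑ j, (Coh.toGlobal (X ↘ Spec (CommRingCat.of k)) (c j)) • w j := fun c => by
    rw [map_sum, map_sum]
    refine Finset.sum_congr rfl fun j _ => ?_
    rw [e0_smul, AddEquiv.apply_symm_apply, ← hv j]
    exact map_smul (ι.val.app (op ⊤)).hom _ (v j)
  have hli : LinearIndependent k fun i => (e0 M).symm (v i) := by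
    refine Fintype.linearIndependent_iff.2 fun c hc i => congrFun (hw c ?_) i
    refine (hlin c).symm.trans ?_
    rw [hc, map_zero, map_zero]
  refine ⟨(Fintype.card_fin m).symm.le.trans hli.fintype_card_le_finrank, fun heq x => ?_⟩
  have hspan := hli.span_eq_top_of_card_eq_finrank' (by rw [Fintype.card_fin]; exact heq.symm)
  obtain ⟨c, hc⟩ := (Submodule.mem_span_range_iff_exists_fun k).1
    (hspan.ge (Submodule.mem_top (x := (e0 M).symm x)))
  refine ⟨c, ?_⟩
  rw [← hlin c, hc, AddEquiv.apply_symm_apply]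

section Projection

variable {m : ℕ} (hm : 2 ≤ m) (hmg : m + 1 < Curv2.genus k X) {M : X.Modules} (hM : PicF.IsInvertible M)
  (hle : m ≤ h k 0 M)

include hd hm hmg hM hle

theorem bound_of_gonal_ge_four (hg : 4 ≤ Curv2.genus k X)
    (hnh : ¬ ∃ (N : X.Modules) (t : Fin 2 → LinSer.Sect X N), LinSer.IsLinSer k X N 2 1 t)
    (hnt : ¬ ∃ (N : X.Modules) (t : Fin 2 → LinSer.Sect X N), LinSer.IsLinSer k X N 3 1 t)
    (hpl : Curv2.genus k X = 6 → ∀ i : X ⟶ CohB1.ProjSpace 2 k, IsClosedImmersion i →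
      i ≫ CohB1.ProjSpace.toSpec 2 k ≠ X ↘ Spec (CommRingCat.of k)) :
    (2 * (Curv2.genus k X : ℤ) - 2) * ((m : ℤ) - 1) < Curv2.deg k X M 1 * ((Curv2.genus k X : ℤ) - 2) := by
  have hrr := rr_deg (k := k) hd.le (Groth.L21.RR.h0_eq_one_of_isAlgClosed k) M
  rcases le_or_gt (h k 1 M) 1 with h1 | h1
  · have hdeg : (m : ℤ) + Curv2.genus k X - 2 ≤ Curv2.deg k X M 1 := by omega
    nlinarith
  · have := two_le_cliff hd hg hnh hnt hpl M hM (by omega) (by omega)
    nlinarith

theorem bound_of_genus_six (hg : Curv2.genus k X = 6)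
    (hnh : ¬ ∃ (N : X.Modules) (t : Fin 2 → LinSer.Sect X N), LinSer.IsLinSer k X N 2 1 t)
    (hnt : ¬ ∃ (N : X.Modules) (t : Fin 2 → LinSer.Sect X N), LinSer.IsLinSer k X N 3 1 t) :
    (2 * (Curv2.genus k X : ℤ) - 2) * ((m : ℤ) - 1) ≤ Curv2.deg k X M 1 * ((Curv2.genus k X : ℤ) - 2) := by
  have h0 : h k 0 (Coh.structureModule X) = 1 := Groth.L21.RR.h0_eq_one_of_isAlgClosed k
  have hrr := rr_deg (k := k) hd.le h0 M
  rw [hg]
  rcases le_or_gt (h k 1 M) 1 with h1 | h1
  · omega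
  · have := hmin_of_no_g12 hd hnh M hM (by omega) (by omega)
    rcases le_or_gt m 3 with h3 | h3
    · omega
    obtain ⟨N, hN, ⟨e⟩, hN0, -⟩ := exists_dual (k := k) hd hM
    have hdeg := deg_tensor (k := k) hd hN hM
    rw [deg_congr (k := k) e, (omega_invariants (k := k) (X := X) hd).2.2 h0] at hdeg
    have := four_le_deg_pencil hd (by omega) hnh hnt N hN (by omega)
    omega

theorem bound_of_trigonal (hg : 5 ≤ Curv2.genus k X)
    (hnh : ¬ ∃ (N : X.Modules) (t : Fin 2 → LinSer.Sect X N), LinSer.IsLinSer k X N 2 1 t)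
    {E : X.Modules} (hE : PicF.IsInvertible E) (hdE : Curv2.deg k X E 1 = 3) (hE0 : 2 ≤ h k 0 E)
    (hexc : Curv2.deg k X M 1 + 5 = 2 * (Curv2.genus k X : ℤ) → h k 0 M = m → m + 2 = Curv2.genus k X → False) :
    (2 * (Curv2.genus k X : ℤ) - 2) * ((m : ℤ) - 1) < Curv2.deg k X M 1 * ((Curv2.genus k X : ℤ) - 2) := by
  have hrr := rr_deg (k := k) hd.le (Groth.L21.RR.h0_eq_one_of_isAlgClosed k) M
  rcases le_or_gt (h k 1 M) 1 with h1 | h1
  · have hdeg : (m : ℤ) + Curv2.genus k X - 2 ≤ Curv2.deg k X M 1 := by omega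
    nlinarith
  · have hb := hmin_of_no_g12 hd hnh M hM (by omega) (by omega)
    rcases le_or_gt (2 * (m : ℤ)) (Curv2.deg k X M 1) with h2 | h2
    · nlinarith
    have hd1 : Curv2.deg k X M 1 = 2 * (m : ℤ) - 1 := by omega
    rcases eq_or_lt_of_le hm with rfl | h3
    · rw [hd1]
      push_cast
      nlinarith
    rcases le_or_gt (m + 3) (Curv2.genus k X) with h4 | h4
    · exact absurd ⟨hM, by omega, by omega, by omega⟩
        (no_cliff_of_trigonal hd hg hnh hE hdE hE0 (r := m - 1) (by omega) (by omega) (M := M))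
    · exact (hexc (by omega) (by omega) (by omega)).elim

end Projection

end Groth.L21.CliffordOne
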