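import Groth.Agent.L21.CliffordOne.Embed
import Groth.Agent.L21.Duality.Special
import Groth.Agent.L21.Duality.NotHyperelliptic
import Groth.Agent.L26.Weil.Axes

/-!
Curves of Clifford index one are trigonal or plane quintics: the base point free pencil trick rules out
series `g^r_{2r+1}` with `r ≥ 3` by induction on `r`, and forces genus six for `r = 2`.
-/

set_option autoImplicit false
set_option backward.isDefEq.respectTransparency false
set_option linter.style.haveILetI false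
universe u

open CategoryTheory CategoryTheory.Limits AlgebraicGeometry TopologicalSpace Opposite

noncomputable section

namespace Groth.L21.CliffordOne

open Groth.L21.RR (h st mulS ptI twist_point twist_two_points h_congr exists_range_mulS)
open Groth.L21.Duality (rr_deg deg_congr deg_tensor exists_dual omega_invariants isInvertible_of_tensor_iso)
open Groth.L00.Tensor (tensorAssoc tensorComm tensorIso tensorUnitLeft tensorUnitRight)
open Groth.L18.GenLoc (isInvertible_tensor)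

variable {k : Type u} [Field k] [IsAlgClosed k] {X : Scheme.{u}} [IsIntegral X]
  [X.Over (Spec (CommRingCat.of k))] [IsProper (X ↘ Spec (CommRingCat.of k))]
  [Smooth (X ↘ Spec (CommRingCat.of k))]

variable (k X) in
/-- The hypotheses: dimension one, genus at least four, Clifford index at least one, no pencil of degree `≤ 3`. -/
structure Setting : Prop where
  hd : topologicalKrullDim X = 1
  h0 : h k 0 (Coh.structureModule X) = 1
  hg : 4 ≤ Curv2.genus k X
  hmin : ∀ M : X.Modules, PicF.IsInvertible M → 2 ≤ h k 0 M → 2 ≤ h k 1 M →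
    2 * (h k 0 M : ℤ) - 1 ≤ Curv2.deg k X M 1
  hNT : ∀ M : X.Modules, PicF.IsInvertible M → 2 ≤ h k 0 M → 4 ≤ Curv2.deg k X M 1

/-- A series realising Clifford index one. -/
def IsCliff (M : X.Modules) (r : ℕ) : Prop :=
  PicF.IsInvertible M ∧ h k 0 M = r + 1 ∧ Curv2.deg k X M 1 = 2 * (r : ℤ) + 1 ∧ 2 ≤ h k 1 M

variable (k X) in
include k in
omit [IsAlgClosed k] [Smooth (X ↘ Spec (CommRingCat.of k))] in
theorem exists_closed_point : ∃ P : X, IsClosed ({P} : Set X) := by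
  haveI := Groth.L21.RR.isNoetherian_of_proper (X := X) k
  obtain ⟨P, hP, -⟩ := Groth.L21.RR.exists_closed_specialization (genericPoint X)
  exact ⟨P, hP⟩

/-- Subtracting points. -/
theorem exists_sub_points (hd : topologicalKrullDim X = 1) :
    ∀ (j : ℕ) (M : X.Modules), PicF.IsInvertible M → ∃ M' : X.Modules, PicF.IsInvertible M' ∧
      Curv2.deg k X M' 1 = Curv2.deg k X M 1 - j ∧ h k 0 M ≤ h k 0 M' + j
  | 0, M, hM => ⟨M, hM, by simp, le_rfl⟩
  | j + 1, M, hM => by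
    obtain ⟨P, hP⟩ := exists_closed_point k X
    obtain ⟨hM₁, -, hd₁, -, hle, -⟩ := twist_point k hd hM hP
    obtain ⟨M', hM', hd', hle'⟩ := exists_sub_points hd j _ hM₁
    exact ⟨M', hM', by rw [hd', hd₁]; push_cast; ring, by omega⟩

namespace Setting

variable (S : Setting k X)
include S

theorem rr (L : X.Modules) :
    (h k 0 L : ℤ) - h k 1 L = Curv2.deg k X L 1 + 1 - Curv2.genus k X := rr_deg S.hd.le S.h0 L

/-- A pencil of least degree. -/
theorem exists_minimal_pencil {M₀ : X.Modules} (hM₀ : PicF.IsInvertible M₀) (h2 : 2 ≤ h k 0 M₀) :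
    ∃ E : X.Modules, PicF.IsInvertible E ∧ h k 0 E = 2 ∧ Curv2.IsGloballyGenerated E ∧
      4 ≤ Curv2.deg k X E 1 ∧ Curv2.deg k X E 1 ≤ Curv2.deg k X M₀ 1 := by
  classical
  let P : ℕ → Prop := fun e => ∃ E : X.Modules, PicF.IsInvertible E ∧ 2 ≤ h k 0 E ∧ Curv2.deg k X E 1 = e
  have hP₀ : P (Curv2.deg k X M₀ 1).toNat :=
    ⟨M₀, hM₀, h2, (Int.toNat_of_nonneg (by linarith [S.hNT M₀ hM₀ h2])).symm⟩
  have hex : ∃ e, P e := ⟨_, hP₀⟩
  obtain ⟨E, hE, hE2, hdE⟩ := Nat.find_spec hex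
  have hsub : ∀ E' : X.Modules, PicF.IsInvertible E' → Curv2.deg k X E' 1 = Curv2.deg k X E 1 - 1 → h k 0 E' ≤ 1 :=
    fun E' hE' hd' => by
      by_contra hlt
      have h4 := S.hNT E' hE' (by omega)
      exact Nat.find_min hex (m := (Curv2.deg k X E' 1).toNat) (by omega) ⟨E', hE', by omega, by omega⟩
  obtain ⟨Q, hQ⟩ := exists_closed_point k X
  have hE2' : h k 0 E = 2 := by
    obtain ⟨hE', -, hd', -, hle, -⟩ := twist_point k S.hd hE hQ
    have := hsub _ hE' hd'
    omega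
  refine ⟨E, hE, hE2', (Groth.L21.RR.isGloballyGenerated_iff_drop k S.hd hE).2 fun P hP => ?_, S.hNT E hE hE2, ?_⟩
  · obtain ⟨hE', -, hd', -, hle, -⟩ := twist_point k S.hd hE hP
    have := hsub _ hE' hd'
    omega
  · have := Nat.find_min' hex hP₀
    have := S.hNT M₀ hM₀ h2
    omega

theorem drop_two {D : X.Modules} (hc : IsCliff (k := k) D 2) (P Q : X) (hP : IsClosed ({P} : Set X))
    (hQ : IsClosed ({Q} : Set X)) :
    h k 0 (CohB1.tensorMod D (CohB1.tensorMod (ptI P hP) (ptI Q hQ))) + 2 = h k 0 D := by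
  obtain ⟨hD, h3, hd5, -⟩ := hc
  obtain ⟨hi, -, hd', hle, -⟩ := twist_two_points k S.hd hD hP hQ
  by_contra hne
  have := S.hNT _ hi (by omega)
  omega

theorem genus_eq_six {D : X.Modules} (hc : IsCliff (k := k) D 2) : Curv2.genus k X = 6 := by
  obtain ⟨hD, h3, hd5, h1D⟩ := hc
  have hrr := S.rr D
  have hg6 : 6 ≤ Curv2.genus k X := by
    by_contra hlt
    obtain ⟨N, hN, ⟨e⟩, hN0, -⟩ := exists_dual (k := k) S.hd hD
    have hdeg := deg_tensor (k := k) S.hd hN hD
    rw [deg_congr (k := k) e, (omega_invariants (k := k) (X := X) S.hd).2.2 S.h0] at hdeg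
    have := S.hNT N hN (by omega)
    omega
  obtain ⟨P, hP⟩ := exists_closed_point k X
  have hgen : ∀ Q : X, IsClosed ({Q} : Set X) → ∃ φ : Coh.structureModule X ⟶ D, Function.Surjective (st φ Q) :=
    fun Q hQ => ((twist_two_points k S.hd hD hQ hQ).2.2.2.2.1 (S.drop_two ⟨hD, h3, hd5, h1D⟩ Q Q hQ hQ)).1
  obtain ⟨hE, -, hdE, -, -, hiff⟩ := twist_point k S.hd hD hP
  have hE2 : h k 0 (CohB1.tensorMod D (ptI P hP)) = 2 := by
    have := hiff.2 (hgen P hP)
    omega
  have hgE : Curv2.IsGloballyGenerated (CohB1.tensorMod D (ptI P hP)) := by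
    refine (Groth.L21.RR.isGloballyGenerated_iff_drop k S.hd hE).2 fun Q hQ => ?_
    have h := S.drop_two ⟨hD, h3, hd5, h1D⟩ P Q hP hQ
    rw [← h_congr k (tensorAssoc D (ptI P hP) (ptI Q hQ)) 0] at h
    omega
  obtain ⟨E', hE', ⟨iE⟩⟩ := Groth.L08.Cube.exists_inverse hE
  have hN := isInvertible_tensor hD hE'
  let i : CohB1.tensorMod (CohB1.tensorMod D E') (CohB1.tensorMod D (ptI P hP)) ≅ D :=
    tensorAssoc D E' _ ≪≫ tensorIso (Iso.refl D) (tensorComm E' _ ≪≫ iE) ≪≫ tensorUnitRight D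
  have hdN := deg_tensor (k := k) S.hd hN hE
  rw [deg_congr (k := k) i] at hdN
  have hN1 : h k 0 (CohB1.tensorMod D E') ≤ 1 := by
    by_contra hlt
    have := S.hNT _ hN (by omega)
    omega
  have hpt := Groth.L21.RR.pencil_trick' k hE hE2 hgE hD hN i
  rw [h_congr k (tensorAssoc D D (ptI P hP)).symm 0] at hpt
  have hDD := isInvertible_tensor hD hD
  obtain ⟨-, -, -, -, -, hiffDD⟩ := twist_point k S.hd hDD hP
  have hdrop : h k 0 (CohB1.tensorMod (CohB1.tensorMod D D) (ptI P hP)) + 1 = h k 0 (CohB1.tensorMod D D) := by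
    refine hiffDD.2 ?_
    obtain ⟨φ, hφ⟩ := hgen P hP
    obtain ⟨σ, hσ, -, hσM⟩ := exists_range_mulS hD φ P
    refine ⟨φ ≫ mulS D φ, fun v => ?_⟩
    obtain ⟨w, hw⟩ : ∃ w, σ • w = v := ⟨(↑(hσ.2 hφ).unit⁻¹ : X.presheaf.stalk P) • v, by
      rw [smul_smul, IsUnit.mul_val_inv, one_smul]⟩
    obtain ⟨u, hu⟩ := (hσM D hD v).2 ⟨w, hw⟩
    obtain ⟨u', hu'⟩ := hφ u
    exact ⟨u', by rw [Groth.L21.RR.st_comp, hu', hu]⟩
  have hdDD := deg_tensor (k := k) S.hd hD hD
  have h1DD : h k 1 (CohB1.tensorMod D D) ≤ 1 := by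
    by_contra hlt
    have := S.hmin _ hDD (by omega) (by omega)
    omega
  have := S.rr (CohB1.tensorMod D D)
  omega

/-- Series of Clifford index one are `g²₅`, in genus six. -/
theorem cliff_eq_two : ∀ (r : ℕ) (M : X.Modules), 1 ≤ r → IsCliff (k := k) M r → r = 2 ∧ Curv2.genus k X = 6 := by
  intro r
  induction r using Nat.strong_induction_on with
  | _ r ih =>
    intro M hr hc
    rcases eq_or_ne r 2 with rfl | hr2
    · exact ⟨rfl, S.genus_eq_six hc⟩
    obtain ⟨hM, hM0, hdM, hM1⟩ := hc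
    exfalso
    rcases eq_or_ne r 1 with rfl | hr1
    · have := S.hNT M hM (by omega)
      omega
    have hr3 : 3 ≤ r := by omega
    have hrr := S.rr M
    by_cases hsmall : Curv2.genus k X ≤ 2 * r + 1
    · obtain ⟨N, hN, ⟨e⟩, hN0, hN1⟩ := exists_dual (k := k) S.hd hM
      have hdeg := deg_tensor (k := k) S.hd hN hM
      rw [deg_congr (k := k) e, (omega_invariants (k := k) (X := X) S.hd).2.2 S.h0] at hdeg
      obtain ⟨r', hr'⟩ : ∃ r', h k 0 N = r' + 1 := ⟨h k 0 N - 1, by omega⟩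
      obtain ⟨h2, h6⟩ := ih r' (by omega) N (by omega) ⟨hN, hr', by omega, by omega⟩
      omega
    obtain ⟨M₁, hM₁, hd₁, hle₁⟩ := exists_sub_points (k := k) S.hd (r - 1) M hM
    obtain ⟨E, hE, hE2, hgE, he4, hele⟩ := S.exists_minimal_pencil hM₁ (by omega)
    obtain ⟨E', hE', ⟨iE⟩⟩ := Groth.L08.Cube.exists_inverse hE
    have hZ := isInvertible_tensor hM hE'
    let i : CohB1.tensorMod (CohB1.tensorMod M E') E ≅ M :=
      tensorAssoc M E' E ≪≫ tensorIso (Iso.refl M) (tensorComm E' E ≪≫ iE) ≪≫ tensorUnitRight M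
    have hdZ := deg_tensor (k := k) S.hd hZ hE
    rw [deg_congr (k := k) i] at hdZ
    have hME := isInvertible_tensor hM hE
    have hdME := deg_tensor (k := k) S.hd hM hE
    have hpt := Groth.L21.RR.pencil_trick' k hE hE2 hgE hM hZ i
    have hrrME := S.rr (CohB1.tensorMod M E)
    have hrrZ := S.rr (CohB1.tensorMod M E')
    by_cases h1ME : 2 ≤ h k 1 (CohB1.tensorMod M E) ∧ 2 ≤ h k 0 (CohB1.tensorMod M E)
    · have hb := S.hmin _ hME h1ME.2 h1ME.1
      have hbZ := S.hmin _ hZ (by omega) (by omega)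
      obtain ⟨r'', hr''⟩ : ∃ r'', h k 0 (CohB1.tensorMod M E') = r'' + 1 :=
        ⟨h k 0 (CohB1.tensorMod M E') - 1, by omega⟩
      obtain ⟨h2, h6⟩ := ih r'' (by omega) _ (by omega) ⟨hZ, hr'', by omega, by omega⟩
      omega
    · have hbZ := S.hmin _ hZ (by omega) (by omega)
      omega

end Setting

theorem main (hd : topologicalKrullDim X = 1) (hg : 4 ≤ Curv2.genus k X)
    (hex : ∃ M : X.Modules, PicF.IsInvertible M ∧ 2 ≤ h k 0 M ∧ 2 ≤ h k 1 M ∧
      Curv2.deg k X M 1 = 2 * (h k 0 M : ℤ) - 1)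
    (hmin : ∀ M : X.Modules, PicF.IsInvertible M → 2 ≤ h k 0 M → 2 ≤ h k 1 M →
      2 * (h k 0 M : ℤ) - 1 ≤ Curv2.deg k X M 1) :
    (∃ (L : X.Modules) (s : Fin 2 → LinSer.Sect X L), LinSer.IsLinSer k X L 3 1 s) ∨
      (Curv2.genus k X = 6 ∧ ∃ i : X ⟶ CohB1.ProjSpace 2 k, IsClosedImmersion i ∧
        i ≫ CohB1.ProjSpace.toSpec 2 k = X ↘ Spec (CommRingCat.of k)) := by
  have h0 : h k 0 (Coh.structureModule X) = 1 := Groth.L21.RR.h0_eq_one_of_isAlgClosed k
  by_cases hNT : ∀ M : X.Modules, PicF.IsInvertible M → 2 ≤ h k 0 M → 4 ≤ Curv2.deg k X M 1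
  swap
  · left
    push Not at hNT
    obtain ⟨M, hM, hM2, hdeg⟩ := hNT
    have hrr := rr_deg (k := k) hd.le h0 M
    have := hmin M hM hM2 (by omega)
    obtain ⟨s, hs⟩ := Groth.L21.Duality.exists_isLinSer (k := k) hM (d := 3) (r := 1) (by omega) (by omega)
    exact ⟨M, s, hs⟩
  right
  have S : Setting k X := ⟨hd, h0, hg, hmin, hNT⟩
  obtain ⟨M, hM, hM0, hM1, hdM⟩ := hex
  obtain ⟨r, hr⟩ : ∃ r, h k 0 M = r + 1 := ⟨h k 0 M - 1, by omega⟩
  have hc : IsCliff (k := k) M r := ⟨hM, hr, by omega, hM1⟩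
  obtain ⟨rfl, h6⟩ := S.cliff_eq_two r M (by omega) hc
  obtain ⟨i, hi, hi', -⟩ := exists_closedImmersion_sections k hd hM hr (S.drop_two hc)
  exact ⟨h6, i, hi, hi'⟩

end Groth.L21.CliffordOne
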